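import Cfsg.Agent.G2Singer.SL3Hom
import Cfsg.Agent.Chev.Data.G2

/-!
The long root elements of the group of type `G₂` are the images of the transvections of `SL₃`,
and its torus is the image of the diagonal matrices.
-/

set_option autoImplicit false

namespace Cfsg.Agent.G2Singer

open Cfsg.Lie
open scoped MatrixGroups
open Cfsg.Agent.Chev

universe u v

variable {E : Type u} [Field E]

local notation:1024 "↥ₘ" A:1024 =>
  ((A : Matrix.SpecialLinearGroup (Fin 3) E) : Matrix (Fin 3) (Fin 3) E)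

@[simp] theorem enc_iH (i : Fin 2) : enc chevG2 (iH i) = (i : ℕ) := rfl

@[simp] theorem enc_iR (k : Fin 12) : enc chevG2 (iR k) = 2 + (k : ℕ) := rfl

/-- Columns of `x_6(t) - 1`. -/
def cols6 : Fin 14 → List (ℕ × ℕ × ℤ) :=
  ![[(8, 1, (3))], [(8, 1, (-2))], [(3, 1, (-1))], [], [], [(6, 1, (-1))], [], [(0, 1, (0)), (1, 1, (1)), (8, 2, (-1))], [], [(10, 1, (1))], [], [], [(13, 1, (1))], []]

theorem colOf6 : ∀ c : Fin 14, colOf chevG2 g2Cert.T 6 c = cols6 c := by decide +kernel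

/-- The action of `x_6(t) - 1`. -/
def delta6 (t : E) (v : chevG2.Idx → E) : chevG2.Idx → E :=
  Sum.elim (![0, (1) * t ^ 1 * v (iR 5)] : Fin 2 → E)
    (![0, (-1) * t ^ 1 * v (iR 0), 0, 0, (-1) * t ^ 1 * v (iR 3), 0, (3) * t ^ 1 * v (iH 0) + (-2) * t ^ 1 * v (iH 1) + (-1) * t ^ 2 * v (iR 5), 0, (1) * t ^ 1 * v (iR 7), 0, 0, (1) * t ^ 1 * v (iR 10)] : Fin 12 → E)

theorem delta6_iH (t : E) (v : chevG2.Idx → E) (p : Fin 2) :
    delta6 t v (iH p) = (![0, (1) * t ^ 1 * v (iR 5)] : Fin 2 → E) p := rfl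

theorem delta6_iR (t : E) (v : chevG2.Idx → E) (p : Fin 12) :
    delta6 t v (iR p) = (![0, (-1) * t ^ 1 * v (iR 0), 0, 0, (-1) * t ^ 1 * v (iR 3), 0, (3) * t ^ 1 * v (iH 0) + (-2) * t ^ 1 * v (iH 1) + (-1) * t ^ 2 * v (iR 5), 0, (1) * t ^ 1 * v (iR 7), 0, 0, (1) * t ^ 1 * v (iR 10)] : Fin 12 → E) p := rfl

theorem act_tv6 (h : (1 : Fin 3) ≠ 0) (t : E) (v : chevG2.Idx → E) :
    act (Matrix.SpecialLinearGroup.transvection h t) v = v + delta6 t v := by
  ext a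
  obtain ⟨p, rfl⟩ | ⟨p, rfl⟩ := idx_cases a <;> fin_cases p <;>
    (simp [act, delta6_iH, delta6_iR, toM, toU, toW,
      Matrix.SpecialLinearGroup.transvection_coe, Matrix.SpecialLinearGroup.transvection_inv,
      Matrix.mul_apply, Matrix.mulVec, dotProduct, Fin.sum_univ_three, Matrix.single,
      Matrix.one_apply] <;> ring)

theorem psi_tv6 (h : (1 : Fin 3) ≠ 0) (t : E) :
    psi (Matrix.SpecialLinearGroup.transvection h t) = xG facts_chevG2 6 t := by
  apply Units.ext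
  ext a b
  rw [psi_apply, act_tv6, xG_val, x_apply g2_checks.tab E (show 6 < chevG2.nroots by decide)]
  obtain ⟨p, rfl⟩ | ⟨p, rfl⟩ := idx_cases a <;> obtain ⟨q, rfl⟩ | ⟨q, rfl⟩ := idx_cases b
  all_goals simp only [enc_iH, enc_iR]
  · rw [colOf6 ⟨q, by omega⟩]; fin_cases p <;> fin_cases q <;>
      simp [cols6, colVal, delta6_iH, delta6_iR, Pi.single_apply]
  · rw [colOf6 ⟨2 + q, by omega⟩]; fin_cases p <;> fin_cases q <;>
      simp [cols6, colVal, delta6_iH, delta6_iR, Pi.single_apply]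
  · rw [colOf6 ⟨q, by omega⟩]; fin_cases p <;> fin_cases q <;>
      simp [cols6, colVal, delta6_iH, delta6_iR, Pi.single_apply]
  · rw [colOf6 ⟨2 + q, by omega⟩]; fin_cases p <;> fin_cases q <;>
      simp [cols6, colVal, delta6_iH, delta6_iR, Pi.single_apply]

/-- Columns of `x_10(t) - 1`. -/
def cols10 : Fin 14 → List (ℕ × ℕ × ℤ) :=
  ![[(12, 1, (-3))], [(12, 1, (1))], [(7, 1, (1))], [(0, 1, (1)), (1, 1, (1)), (12, 2, (-1))], [(9, 1, (1))], [], [(11, 1, (-1))], [], [(13, 1, (-1))], [], [], [], [], []]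

theorem colOf10 : ∀ c : Fin 14, colOf chevG2 g2Cert.T 10 c = cols10 c := by decide +kernel

/-- The action of `x_10(t) - 1`. -/
def delta10 (t : E) (v : chevG2.Idx → E) : chevG2.Idx → E :=
  Sum.elim (![(1) * t ^ 1 * v (iR 1), (1) * t ^ 1 * v (iR 1)] : Fin 2 → E)
    (![0, 0, 0, 0, 0, (1) * t ^ 1 * v (iR 0), 0, (1) * t ^ 1 * v (iR 2), 0, (-1) * t ^ 1 * v (iR 4), (-3) * t ^ 1 * v (iH 0) + (1) * t ^ 1 * v (iH 1) + (-1) * t ^ 2 * v (iR 1), (-1) * t ^ 1 * v (iR 6)] : Fin 12 → E)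

theorem delta10_iH (t : E) (v : chevG2.Idx → E) (p : Fin 2) :
    delta10 t v (iH p) = (![(1) * t ^ 1 * v (iR 1), (1) * t ^ 1 * v (iR 1)] : Fin 2 → E) p := rfl

theorem delta10_iR (t : E) (v : chevG2.Idx → E) (p : Fin 12) :
    delta10 t v (iR p) = (![0, 0, 0, 0, 0, (1) * t ^ 1 * v (iR 0), 0, (1) * t ^ 1 * v (iR 2), 0, (-1) * t ^ 1 * v (iR 4), (-3) * t ^ 1 * v (iH 0) + (1) * t ^ 1 * v (iH 1) + (-1) * t ^ 2 * v (iR 1), (-1) * t ^ 1 * v (iR 6)] : Fin 12 → E) p := rfl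

theorem act_tv10 (h : (0 : Fin 3) ≠ 2) (t : E) (v : chevG2.Idx → E) :
    act (Matrix.SpecialLinearGroup.transvection h t) v = v + delta10 t v := by
  ext a
  obtain ⟨p, rfl⟩ | ⟨p, rfl⟩ := idx_cases a <;> fin_cases p <;>
    (simp [act, delta10_iH, delta10_iR, toM, toU, toW,
      Matrix.SpecialLinearGroup.transvection_coe, Matrix.SpecialLinearGroup.transvection_inv,
      Matrix.mul_apply, Matrix.mulVec, dotProduct, Fin.sum_univ_three, Matrix.single,
      Matrix.one_apply] <;> ring)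

theorem psi_tv10 (h : (0 : Fin 3) ≠ 2) (t : E) :
    psi (Matrix.SpecialLinearGroup.transvection h t) = xG facts_chevG2 10 t := by
  apply Units.ext
  ext a b
  rw [psi_apply, act_tv10, xG_val, x_apply g2_checks.tab E (show 10 < chevG2.nroots by decide)]
  obtain ⟨p, rfl⟩ | ⟨p, rfl⟩ := idx_cases a <;> obtain ⟨q, rfl⟩ | ⟨q, rfl⟩ := idx_cases b
  all_goals simp only [enc_iH, enc_iR]
  · rw [colOf10 ⟨q, by omega⟩]; fin_cases p <;> fin_cases q <;>
      simp [cols10, colVal, delta10_iH, delta10_iR, Pi.single_apply]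
  · rw [colOf10 ⟨2 + q, by omega⟩]; fin_cases p <;> fin_cases q <;>
      simp [cols10, colVal, delta10_iH, delta10_iR, Pi.single_apply]
  · rw [colOf10 ⟨q, by omega⟩]; fin_cases p <;> fin_cases q <;>
      simp [cols10, colVal, delta10_iH, delta10_iR, Pi.single_apply]
  · rw [colOf10 ⟨2 + q, by omega⟩]; fin_cases p <;> fin_cases q <;>
      simp [cols10, colVal, delta10_iH, delta10_iR, Pi.single_apply]

/-- Columns of `x_11(t) - 1`. -/
def cols11 : Fin 14 → List (ℕ × ℕ × ℤ) :=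
  ![[], [(13, 1, (-1))], [(0, 1, (1)), (1, 1, (2)), (13, 2, (-1))], [(8, 1, (1))], [(10, 1, (1))], [(11, 1, (-1))], [], [(12, 1, (-1))], [], [], [], [], [], []]

theorem colOf11 : ∀ c : Fin 14, colOf chevG2 g2Cert.T 11 c = cols11 c := by decide +kernel

/-- The action of `x_11(t) - 1`. -/
def delta11 (t : E) (v : chevG2.Idx → E) : chevG2.Idx → E :=
  Sum.elim (![(1) * t ^ 1 * v (iR 0), (2) * t ^ 1 * v (iR 0)] : Fin 2 → E)
    (![0, 0, 0, 0, 0, 0, (1) * t ^ 1 * v (iR 1), 0, (1) * t ^ 1 * v (iR 2), (-1) * t ^ 1 * v (iR 3), (-1) * t ^ 1 * v (iR 5), (-1) * t ^ 1 * v (iH 1) + (-1) * t ^ 2 * v (iR 0)] : Fin 12 → E)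

theorem delta11_iH (t : E) (v : chevG2.Idx → E) (p : Fin 2) :
    delta11 t v (iH p) = (![(1) * t ^ 1 * v (iR 0), (2) * t ^ 1 * v (iR 0)] : Fin 2 → E) p := rfl

theorem delta11_iR (t : E) (v : chevG2.Idx → E) (p : Fin 12) :
    delta11 t v (iR p) = (![0, 0, 0, 0, 0, 0, (1) * t ^ 1 * v (iR 1), 0, (1) * t ^ 1 * v (iR 2), (-1) * t ^ 1 * v (iR 3), (-1) * t ^ 1 * v (iR 5), (-1) * t ^ 1 * v (iH 1) + (-1) * t ^ 2 * v (iR 0)] : Fin 12 → E) p := rfl

theorem act_tv11 (h : (1 : Fin 3) ≠ 2) (t : E) (v : chevG2.Idx → E) :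
    act (Matrix.SpecialLinearGroup.transvection h t) v = v + delta11 t v := by
  ext a
  obtain ⟨p, rfl⟩ | ⟨p, rfl⟩ := idx_cases a <;> fin_cases p <;>
    (simp [act, delta11_iH, delta11_iR, toM, toU, toW,
      Matrix.SpecialLinearGroup.transvection_coe, Matrix.SpecialLinearGroup.transvection_inv,
      Matrix.mul_apply, Matrix.mulVec, dotProduct, Fin.sum_univ_three, Matrix.single,
      Matrix.one_apply] <;> ring)

theorem psi_tv11 (h : (1 : Fin 3) ≠ 2) (t : E) :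
    psi (Matrix.SpecialLinearGroup.transvection h t) = xG facts_chevG2 11 t := by
  apply Units.ext
  ext a b
  rw [psi_apply, act_tv11, xG_val, x_apply g2_checks.tab E (show 11 < chevG2.nroots by decide)]
  obtain ⟨p, rfl⟩ | ⟨p, rfl⟩ := idx_cases a <;> obtain ⟨q, rfl⟩ | ⟨q, rfl⟩ := idx_cases b
  all_goals simp only [enc_iH, enc_iR]
  · rw [colOf11 ⟨q, by omega⟩]; fin_cases p <;> fin_cases q <;>
      simp [cols11, colVal, delta11_iH, delta11_iR, Pi.single_apply]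
  · rw [colOf11 ⟨2 + q, by omega⟩]; fin_cases p <;> fin_cases q <;>
      simp [cols11, colVal, delta11_iH, delta11_iR, Pi.single_apply]
  · rw [colOf11 ⟨q, by omega⟩]; fin_cases p <;> fin_cases q <;>
      simp [cols11, colVal, delta11_iH, delta11_iR, Pi.single_apply]
  · rw [colOf11 ⟨2 + q, by omega⟩]; fin_cases p <;> fin_cases q <;>
      simp [cols11, colVal, delta11_iH, delta11_iR, Pi.single_apply]

/-- Columns of `x_5(t) - 1`. -/
def cols5 : Fin 14 → List (ℕ × ℕ × ℤ) :=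
  ![[(7, 1, (-3))], [(7, 1, (2))], [], [(2, 1, (-1))], [], [], [(5, 1, (-1))], [], [(0, 1, (0)), (1, 1, (-1)), (7, 2, (-1))], [], [(9, 1, (1))], [], [], [(12, 1, (1))]]

theorem colOf5 : ∀ c : Fin 14, colOf chevG2 g2Cert.T 5 c = cols5 c := by decide +kernel

/-- The action of `x_5(t) - 1`. -/
def delta5 (t : E) (v : chevG2.Idx → E) : chevG2.Idx → E :=
  Sum.elim (![0, (-1) * t ^ 1 * v (iR 6)] : Fin 2 → E)
    (![(-1) * t ^ 1 * v (iR 1), 0, 0, (-1) * t ^ 1 * v (iR 4), 0, (-3) * t ^ 1 * v (iH 0) + (2) * t ^ 1 * v (iH 1) + (-1) * t ^ 2 * v (iR 6), 0, (1) * t ^ 1 * v (iR 8), 0, 0, (1) * t ^ 1 * v (iR 11), 0] : Fin 12 → E)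

theorem delta5_iH (t : E) (v : chevG2.Idx → E) (p : Fin 2) :
    delta5 t v (iH p) = (![0, (-1) * t ^ 1 * v (iR 6)] : Fin 2 → E) p := rfl

theorem delta5_iR (t : E) (v : chevG2.Idx → E) (p : Fin 12) :
    delta5 t v (iR p) = (![(-1) * t ^ 1 * v (iR 1), 0, 0, (-1) * t ^ 1 * v (iR 4), 0, (-3) * t ^ 1 * v (iH 0) + (2) * t ^ 1 * v (iH 1) + (-1) * t ^ 2 * v (iR 6), 0, (1) * t ^ 1 * v (iR 8), 0, 0, (1) * t ^ 1 * v (iR 11), 0] : Fin 12 → E) p := rfl

theorem act_tv5 (h : (0 : Fin 3) ≠ 1) (t : E) (v : chevG2.Idx → E) :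
    act (Matrix.SpecialLinearGroup.transvection h t) v = v + delta5 t v := by
  ext a
  obtain ⟨p, rfl⟩ | ⟨p, rfl⟩ := idx_cases a <;> fin_cases p <;>
    (simp [act, delta5_iH, delta5_iR, toM, toU, toW,
      Matrix.SpecialLinearGroup.transvection_coe, Matrix.SpecialLinearGroup.transvection_inv,
      Matrix.mul_apply, Matrix.mulVec, dotProduct, Fin.sum_univ_three, Matrix.single,
      Matrix.one_apply] <;> ring)

theorem psi_tv5 (h : (0 : Fin 3) ≠ 1) (t : E) :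
    psi (Matrix.SpecialLinearGroup.transvection h t) = xG facts_chevG2 5 t := by
  apply Units.ext
  ext a b
  rw [psi_apply, act_tv5, xG_val, x_apply g2_checks.tab E (show 5 < chevG2.nroots by decide)]
  obtain ⟨p, rfl⟩ | ⟨p, rfl⟩ := idx_cases a <;> obtain ⟨q, rfl⟩ | ⟨q, rfl⟩ := idx_cases b
  all_goals simp only [enc_iH, enc_iR]
  · rw [colOf5 ⟨q, by omega⟩]; fin_cases p <;> fin_cases q <;>
      simp [cols5, colVal, delta5_iH, delta5_iR, Pi.single_apply]
  · rw [colOf5 ⟨2 + q, by omega⟩]; fin_cases p <;> fin_cases q <;>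
      simp [cols5, colVal, delta5_iH, delta5_iR, Pi.single_apply]
  · rw [colOf5 ⟨q, by omega⟩]; fin_cases p <;> fin_cases q <;>
      simp [cols5, colVal, delta5_iH, delta5_iR, Pi.single_apply]
  · rw [colOf5 ⟨2 + q, by omega⟩]; fin_cases p <;> fin_cases q <;>
      simp [cols5, colVal, delta5_iH, delta5_iR, Pi.single_apply]

/-- Columns of `x_1(t) - 1`. -/
def cols1 : Fin 14 → List (ℕ × ℕ × ℤ) :=
  ![[(3, 1, (3))], [(3, 1, (-1))], [], [], [], [], [], [(2, 1, (1))], [], [(4, 1, (1))], [], [(6, 1, (-1))], [(0, 1, (-1)), (1, 1, (-1)), (3, 2, (-1))], [(8, 1, (-1))]]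

theorem colOf1 : ∀ c : Fin 14, colOf chevG2 g2Cert.T 1 c = cols1 c := by decide +kernel

/-- The action of `x_1(t) - 1`. -/
def delta1 (t : E) (v : chevG2.Idx → E) : chevG2.Idx → E :=
  Sum.elim (![(-1) * t ^ 1 * v (iR 10), (-1) * t ^ 1 * v (iR 10)] : Fin 2 → E)
    (![(1) * t ^ 1 * v (iR 5), (3) * t ^ 1 * v (iH 0) + (-1) * t ^ 1 * v (iH 1) + (-1) * t ^ 2 * v (iR 10), (1) * t ^ 1 * v (iR 7), 0, (-1) * t ^ 1 * v (iR 9), 0, (-1) * t ^ 1 * v (iR 11), 0, 0, 0, 0, 0] : Fin 12 → E)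

theorem delta1_iH (t : E) (v : chevG2.Idx → E) (p : Fin 2) :
    delta1 t v (iH p) = (![(-1) * t ^ 1 * v (iR 10), (-1) * t ^ 1 * v (iR 10)] : Fin 2 → E) p := rfl

theorem delta1_iR (t : E) (v : chevG2.Idx → E) (p : Fin 12) :
    delta1 t v (iR p) = (![(1) * t ^ 1 * v (iR 5), (3) * t ^ 1 * v (iH 0) + (-1) * t ^ 1 * v (iH 1) + (-1) * t ^ 2 * v (iR 10), (1) * t ^ 1 * v (iR 7), 0, (-1) * t ^ 1 * v (iR 9), 0, (-1) * t ^ 1 * v (iR 11), 0, 0, 0, 0, 0] : Fin 12 → E) p := rfl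

theorem act_tv1 (h : (2 : Fin 3) ≠ 0) (t : E) (v : chevG2.Idx → E) :
    act (Matrix.SpecialLinearGroup.transvection h t) v = v + delta1 t v := by
  ext a
  obtain ⟨p, rfl⟩ | ⟨p, rfl⟩ := idx_cases a <;> fin_cases p <;>
    (simp [act, delta1_iH, delta1_iR, toM, toU, toW,
      Matrix.SpecialLinearGroup.transvection_coe, Matrix.SpecialLinearGroup.transvection_inv,
      Matrix.mul_apply, Matrix.mulVec, dotProduct, Fin.sum_univ_three, Matrix.single,
      Matrix.one_apply] <;> ring)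

theorem psi_tv1 (h : (2 : Fin 3) ≠ 0) (t : E) :
    psi (Matrix.SpecialLinearGroup.transvection h t) = xG facts_chevG2 1 t := by
  apply Units.ext
  ext a b
  rw [psi_apply, act_tv1, xG_val, x_apply g2_checks.tab E (show 1 < chevG2.nroots by decide)]
  obtain ⟨p, rfl⟩ | ⟨p, rfl⟩ := idx_cases a <;> obtain ⟨q, rfl⟩ | ⟨q, rfl⟩ := idx_cases b
  all_goals simp only [enc_iH, enc_iR]
  · rw [colOf1 ⟨q, by omega⟩]; fin_cases p <;> fin_cases q <;>
      simp [cols1, colVal, delta1_iH, delta1_iR, Pi.single_apply]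
  · rw [colOf1 ⟨2 + q, by omega⟩]; fin_cases p <;> fin_cases q <;>
      simp [cols1, colVal, delta1_iH, delta1_iR, Pi.single_apply]
  · rw [colOf1 ⟨q, by omega⟩]; fin_cases p <;> fin_cases q <;>
      simp [cols1, colVal, delta1_iH, delta1_iR, Pi.single_apply]
  · rw [colOf1 ⟨2 + q, by omega⟩]; fin_cases p <;> fin_cases q <;>
      simp [cols1, colVal, delta1_iH, delta1_iR, Pi.single_apply]

/-- Columns of `x_0(t) - 1`. -/
def cols0 : Fin 14 → List (ℕ × ℕ × ℤ) :=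
  ![[], [(2, 1, (1))], [], [], [], [], [], [], [(3, 1, (1))], [], [(4, 1, (1))], [(5, 1, (-1))], [(7, 1, (-1))], [(0, 1, (-1)), (1, 1, (-2)), (2, 2, (-1))]]

theorem colOf0 : ∀ c : Fin 14, colOf chevG2 g2Cert.T 0 c = cols0 c := by decide +kernel

/-- The action of `x_0(t) - 1`. -/
def delta0 (t : E) (v : chevG2.Idx → E) : chevG2.Idx → E :=
  Sum.elim (![(-1) * t ^ 1 * v (iR 11), (-2) * t ^ 1 * v (iR 11)] : Fin 2 → E)
    (![(1) * t ^ 1 * v (iH 1) + (-1) * t ^ 2 * v (iR 11), (1) * t ^ 1 * v (iR 6), (1) * t ^ 1 * v (iR 8), (-1) * t ^ 1 * v (iR 9), 0, (-1) * t ^ 1 * v (iR 10), 0, 0, 0, 0, 0, 0] : Fin 12 → E)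

theorem delta0_iH (t : E) (v : chevG2.Idx → E) (p : Fin 2) :
    delta0 t v (iH p) = (![(-1) * t ^ 1 * v (iR 11), (-2) * t ^ 1 * v (iR 11)] : Fin 2 → E) p := rfl

theorem delta0_iR (t : E) (v : chevG2.Idx → E) (p : Fin 12) :
    delta0 t v (iR p) = (![(1) * t ^ 1 * v (iH 1) + (-1) * t ^ 2 * v (iR 11), (1) * t ^ 1 * v (iR 6), (1) * t ^ 1 * v (iR 8), (-1) * t ^ 1 * v (iR 9), 0, (-1) * t ^ 1 * v (iR 10), 0, 0, 0, 0, 0, 0] : Fin 12 → E) p := rfl

theorem act_tv0 (h : (2 : Fin 3) ≠ 1) (t : E) (v : chevG2.Idx → E) :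
    act (Matrix.SpecialLinearGroup.transvection h t) v = v + delta0 t v := by
  ext a
  obtain ⟨p, rfl⟩ | ⟨p, rfl⟩ := idx_cases a <;> fin_cases p <;>
    (simp [act, delta0_iH, delta0_iR, toM, toU, toW,
      Matrix.SpecialLinearGroup.transvection_coe, Matrix.SpecialLinearGroup.transvection_inv,
      Matrix.mul_apply, Matrix.mulVec, dotProduct, Fin.sum_univ_three, Matrix.single,
      Matrix.one_apply] <;> ring)

theorem psi_tv0 (h : (2 : Fin 3) ≠ 1) (t : E) :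
    psi (Matrix.SpecialLinearGroup.transvection h t) = xG facts_chevG2 0 t := by
  apply Units.ext
  ext a b
  rw [psi_apply, act_tv0, xG_val, x_apply g2_checks.tab E (show 0 < chevG2.nroots by decide)]
  obtain ⟨p, rfl⟩ | ⟨p, rfl⟩ := idx_cases a <;> obtain ⟨q, rfl⟩ | ⟨q, rfl⟩ := idx_cases b
  all_goals simp only [enc_iH, enc_iR]
  · rw [colOf0 ⟨q, by omega⟩]; fin_cases p <;> fin_cases q <;>
      simp [cols0, colVal, delta0_iH, delta0_iR, Pi.single_apply]
  · rw [colOf0 ⟨2 + q, by omega⟩]; fin_cases p <;> fin_cases q <;>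
      simp [cols0, colVal, delta0_iH, delta0_iR, Pi.single_apply]
  · rw [colOf0 ⟨q, by omega⟩]; fin_cases p <;> fin_cases q <;>
      simp [cols0, colVal, delta0_iH, delta0_iR, Pi.single_apply]
  · rw [colOf0 ⟨2 + q, by omega⟩]; fin_cases p <;> fin_cases q <;>
      simp [cols0, colVal, delta0_iH, delta0_iR, Pi.single_apply]

theorem diagElt_inv (c : Fin chevG2.rank → Eˣ) :
    ↥ₘ((diagElt c)⁻¹) = Matrix.diagonal
      ![(c (1 : Fin 2) : E) / (c (0 : Fin 2) : E) ^ 2, (c (0 : Fin 2) : E) / c (1 : Fin 2),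
        (c (0 : Fin 2) : E)] := by
  have hc0 : (c (0 : Fin 2) : E) ≠ 0 := Units.ne_zero _
  have hc1 : (c (1 : Fin 2) : E) ≠ 0 := Units.ne_zero _
  refine (Matrix.inv_eq_left_inv (inv_mul_val (diagElt c))).symm.trans (Matrix.inv_eq_left_inv ?_)
  rw [diagElt, Matrix.diagonal_mul_diagonal, ← Matrix.diagonal_one]
  congr 1
  ext i
  fin_cases i <;> simp <;> field_simp

theorem chiU_G2 (c : Fin chevG2.rank → Eˣ) (k : Fin 12) : (chiU c ((k : ℕ)) : E) =
    (c (0 : Fin 2) : E) ^ (chevG2.cartan 0 k) * (c (1 : Fin 2) : E) ^ (chevG2.cartan 1 k) := by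
  rw [chiU]
  show ((∏ j : Fin 2, c j ^ chevG2.cartan j k : Eˣ) : E) = _
  rw [Fin.prod_univ_two]
  simp

theorem act_diagElt_iH (c : Fin chevG2.rank → Eˣ) (v : chevG2.Idx → E) (p : Fin 2) :
    act (diagElt c) v (iH p) = v (iH p) := by
  have hc0 : (c (0 : Fin 2) : E) ≠ 0 := Units.ne_zero _
  have hc1 : (c (1 : Fin 2) : E) ≠ 0 := Units.ne_zero _
  fin_cases p <;>
  · rw [act, diagElt_inv, diagElt]
    simp [toM, Matrix.diagonal_mul, Matrix.mul_diagonal]
    field_simp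
    ring

theorem act_diagElt_iR (c : Fin chevG2.rank → Eˣ) (v : chevG2.Idx → E) (p : Fin 12) :
    act (diagElt c) v (iR p) = (chiU c ((p : ℕ)) : E) * v (iR p) := by
  have hc0 : (c (0 : Fin 2) : E) ≠ 0 := Units.ne_zero _
  have hc1 : (c (1 : Fin 2) : E) ≠ 0 := Units.ne_zero _
  rw [chiU_G2]
  fin_cases p <;>
  · rw [act, diagElt_inv, diagElt]
    simp [toM, toU, toW, Matrix.diagonal_mul, Matrix.mul_diagonal, Matrix.mulVec_diagonal,
      ChevalleyDatum.cartan, chevG2, chevG2CartanSR]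
    all_goals first | (field_simp; done) | (left; field_simp; done) | (field_simp; ring)

/-- The diagonal matrices give the torus. -/
theorem psi_diagElt (c : Fin chevG2.rank → Eˣ) : psi (diagElt c) = torusHom c := by
  apply Units.ext
  ext a b
  rw [psi_apply, torusHom_apply]
  obtain ⟨p, rfl⟩ | ⟨p, rfl⟩ := idx_cases a
  · rw [act_diagElt_iH, Pi.single_apply]
    rfl
  · rw [act_diagElt_iR, Pi.single_apply, mul_ite, mul_one, mul_zero]
    rfl

theorem psi_tv_exists (i j : Fin 3) (h : i ≠ j) (t : E) :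
    ∃ r, psi (Matrix.SpecialLinearGroup.transvection h t) = xG facts_chevG2 r t := by
  fin_cases i <;> fin_cases j <;>
    first
      | exact absurd rfl h
      | exact ⟨_, psi_tv0 h t⟩
      | exact ⟨_, psi_tv1 h t⟩
      | exact ⟨_, psi_tv5 h t⟩
      | exact ⟨_, psi_tv6 h t⟩
      | exact ⟨_, psi_tv10 h t⟩
      | exact ⟨_, psi_tv11 h t⟩

/-- The image of `SL₃` lies in the group. -/
theorem psi_mem_group (X : Matrix.SpecialLinearGroup (Fin 3) E) : psi X ∈ chevG2.group E := by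
  have hle : (⊤ : Subgroup (Matrix.SpecialLinearGroup (Fin 3) E)) ≤ (chevG2.group E).comap psi := by
    refine (Classical.sl_eq_top_of_transvection _ fun i j h t => ?_).ge
    obtain ⟨r, hr⟩ := psi_tv_exists i j h t
    show psi _ ∈ chevG2.group E
    rw [hr]
    exact xG_mem_group _ r t
  exact hle (Subgroup.mem_top X)

/-- The homomorphism commutes with homomorphisms of fields. -/
theorem gmap_psi {K : Type v} [Field K] (f : E →+* K) (X : Matrix.SpecialLinearGroup (Fin 3) E) :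
    gmap chevG2 f (psi X) = psi (Matrix.SpecialLinearGroup.map f X) := by
  have hle : (⊤ : Subgroup (Matrix.SpecialLinearGroup (Fin 3) E)) ≤
      MonoidHom.eqLocus ((gmap chevG2 f).comp psi)
        ((psi (E := K)).comp (Matrix.SpecialLinearGroup.map f)) := by
    refine (Classical.sl_eq_top_of_transvection _ fun i j h t => ?_).ge
    show gmap chevG2 f (psi _) = psi (Matrix.SpecialLinearGroup.map f _)
    have hm : Matrix.SpecialLinearGroup.map f (Matrix.SpecialLinearGroup.transvection h t) =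
        Matrix.SpecialLinearGroup.transvection h (f t) := by
      apply Matrix.SpecialLinearGroup.ext
      intro a b
      simp [Matrix.SpecialLinearGroup.transvection_coe, Matrix.one_apply, Matrix.single,
        Matrix.SpecialLinearGroup.map_apply_coe, apply_ite f]
    rw [hm]
    fin_cases i <;> fin_cases j <;>
      first
        | exact absurd rfl h
        | (rw [psi_tv0 h, psi_tv0 h, gmap_xG])
        | (rw [psi_tv1 h, psi_tv1 h, gmap_xG])
        | (rw [psi_tv5 h, psi_tv5 h, gmap_xG])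
        | (rw [psi_tv6 h, psi_tv6 h, gmap_xG])
        | (rw [psi_tv10 h, psi_tv10 h, gmap_xG])
        | (rw [psi_tv11 h, psi_tv11 h, gmap_xG])
  exact hle (Subgroup.mem_top X)

end Cfsg.Agent.G2Singer
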