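import Cfsg.Agent.Chev.All
import Cfsg.Agent.Chev.Functorial
import Cfsg.Agent.Classical.LinearBasic

/-!
The homomorphism of `SL₃` into the group of type `G₂` given by the long roots: the Lie algebra is
`sl₃ ⊕ V ⊕ V*`, and `X` acts by `(M, u, w) ↦ (X M X⁻¹, X u, X⁻ᵀ w)`.
-/

set_option autoImplicit false

namespace Cfsg.Agent.G2Singer

open Cfsg.Lie
open scoped MatrixGroups
open Cfsg.Agent.Chev

universe u

variable {E : Type u} [Field E]

/-- Coordinate of a root vector. -/
def iR (k : Fin 12) : chevG2.Idx := Sum.inr k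

/-- Coordinate of a fundamental coroot. -/
def iH (i : Fin 2) : chevG2.Idx := Sum.inl i

theorem idx_cases (a : chevG2.Idx) : (∃ i, a = iH i) ∨ ∃ k, a = iR k := by
  rcases a with i | k
  exacts [Or.inl ⟨i, rfl⟩, Or.inr ⟨k, rfl⟩]

@[simp] theorem iR_inj {k l : Fin 12} : iR k = iR l ↔ k = l :=
  ⟨fun h => Sum.inr.inj h, fun h => h ▸ rfl⟩

@[simp] theorem iH_inj {i j : Fin 2} : iH i = iH j ↔ i = j :=
  ⟨fun h => Sum.inl.inj h, fun h => h ▸ rfl⟩

@[simp] theorem iR_ne_iH {k : Fin 12} {i : Fin 2} : iR k ≠ iH i := fun h => nomatch h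

@[simp] theorem iH_ne_iR {k : Fin 12} {i : Fin 2} : iH i ≠ iR k := fun h => nomatch h

/-- The component in `sl₃`. -/
def toM (v : chevG2.Idx → E) : Matrix (Fin 3) (Fin 3) E :=
  !![2 * v (iH 0) - v (iH 1), v (iR 5), v (iR 10);
     v (iR 6), -v (iH 0) + v (iH 1), v (iR 11);
     v (iR 1), v (iR 0), -v (iH 0)]

/-- The component in the natural module. -/
def toU (v : chevG2.Idx → E) : Fin 3 → E := ![v (iR 7), v (iR 8), v (iR 2)]

/-- The component in the dual module. -/
def toW (v : chevG2.Idx → E) : Fin 3 → E := ![v (iR 4), v (iR 3), v (iR 9)]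

/-- Assemble a vector from its three components. -/
def ofT (M : Matrix (Fin 3) (Fin 3) E) (u w : Fin 3 → E) : chevG2.Idx → E :=
  Sum.elim (![M 0 0 + M 1 1, M 0 0 + 2 * M 1 1] : Fin 2 → E)
    (![M 2 1, M 2 0, u 2, w 1, w 0, M 0 1, M 1 0, u 0, u 1, w 2, M 0 2, M 1 2] : Fin 12 → E)

@[simp] theorem ofT_iH (M : Matrix (Fin 3) (Fin 3) E) (u w : Fin 3 → E) (i : Fin 2) :
    ofT M u w (iH i) = ![M 0 0 + M 1 1, M 0 0 + 2 * M 1 1] i := rfl

@[simp] theorem ofT_iR (M : Matrix (Fin 3) (Fin 3) E) (u w : Fin 3 → E) (k : Fin 12) :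
    ofT M u w (iR k) =
      ![M 2 1, M 2 0, u 2, w 1, w 0, M 0 1, M 1 0, u 0, u 1, w 2, M 0 2, M 1 2] k := rfl

theorem toM_ofT {M : Matrix (Fin 3) (Fin 3) E} (hM : M.trace = 0) (u w : Fin 3 → E) :
    toM (ofT M u w) = M := by
  rw [Matrix.trace_fin_three] at hM
  ext i j
  fin_cases i <;> fin_cases j <;> simp [toM] <;> try ring
  linear_combination -hM

theorem toU_ofT (M : Matrix (Fin 3) (Fin 3) E) (u w : Fin 3 → E) : toU (ofT M u w) = u := by
  ext i; fin_cases i <;> simp [toU]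

theorem toW_ofT (M : Matrix (Fin 3) (Fin 3) E) (u w : Fin 3 → E) : toW (ofT M u w) = w := by
  ext i; fin_cases i <;> simp [toW]

theorem trace_toM (v : chevG2.Idx → E) : (toM v).trace = 0 := by
  simp [toM, Matrix.trace_fin_three]; ring

theorem ofT_toT (v : chevG2.Idx → E) : ofT (toM v) (toU v) (toW v) = v := by
  ext a
  obtain ⟨i, rfl⟩ | ⟨r, rfl⟩ := idx_cases a
  · fin_cases i <;> simp [toM] <;> ring
  · fin_cases r <;> simp [toM, toU, toW]

theorem toM_linear (a : E) (v w : chevG2.Idx → E) :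
    toM (a • v + w) = a • toM v + toM w := by
  ext i j; fin_cases i <;> fin_cases j <;> simp [toM] <;> ring

theorem toU_linear (a : E) (v w : chevG2.Idx → E) :
    toU (a • v + w) = a • toU v + toU w := by
  ext i; fin_cases i <;> simp [toU]

theorem toW_linear (a : E) (v w : chevG2.Idx → E) :
    toW (a • v + w) = a • toW v + toW w := by
  ext i; fin_cases i <;> simp [toW]

theorem ofT_linear (a : E) (M M' : Matrix (Fin 3) (Fin 3) E) (u u' w w' : Fin 3 → E) :
    ofT (a • M + M') (a • u + u') (a • w + w') = a • ofT M u w + ofT M' u' w' := by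
  ext x
  obtain ⟨i, rfl⟩ | ⟨r, rfl⟩ := idx_cases x
  · fin_cases i <;> simp <;> ring
  · fin_cases r <;> simp

local notation "S3" => Matrix.SpecialLinearGroup (Fin 3) E
local notation:1024 "↥ₘ" A:1024 => ((A : S3) : Matrix (Fin 3) (Fin 3) E)

/-- The action of `X`. -/
def act (X : S3) (v : chevG2.Idx → E) : chevG2.Idx → E :=
  ofT (↥ₘ X * toM v * ↥ₘ(X⁻¹)) (Matrix.mulVec (↥ₘ X) (toU v))
    (Matrix.mulVec (↥ₘ(X⁻¹)).transpose (toW v))

theorem inv_mul_val (X : S3) : ↥ₘ(X⁻¹) * ↥ₘ X = 1 := by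
  rw [← Matrix.SpecialLinearGroup.coe_mul, inv_mul_cancel, Matrix.SpecialLinearGroup.coe_one]

theorem act_one (v : chevG2.Idx → E) : act (1 : S3) v = v := by
  simp [act, ofT_toT]

theorem act_mul (X Y : S3) (v : chevG2.Idx → E) : act (X * Y) v = act X (act Y v) := by
  have ht : (↥ₘ Y * toM v * ↥ₘ(Y⁻¹)).trace = 0 := by
    rw [Matrix.trace_mul_comm, ← Matrix.mul_assoc, inv_mul_val, Matrix.one_mul, trace_toM]
  rw [act, act, act, toM_ofT ht, toU_ofT, toW_ofT]
  simp only [mul_inv_rev, Matrix.SpecialLinearGroup.coe_mul, Matrix.mulVec_mulVec,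
    Matrix.transpose_mul, Matrix.mul_assoc]

theorem act_linear (X : S3) (a : E) (v w : chevG2.Idx → E) :
    act X (a • v + w) = a • act X v + act X w := by
  simp only [act, toM_linear, toU_linear, toW_linear, Matrix.mulVec_add, Matrix.mulVec_smul,
    mul_add, add_mul, mul_smul_comm, smul_mul_assoc, ofT_linear]

/-- `act` as a linear map. -/
def actL (X : S3) : (chevG2.Idx → E) →ₗ[E] (chevG2.Idx → E) where
  toFun := act X
  map_add' v w := by simpa using act_linear X 1 v w
  map_smul' a v := by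
    have h0 : act X (0 : chevG2.Idx → E) = 0 := by
      have := act_linear X 1 (0 : chevG2.Idx → E) 0
      simpa using this
    simpa [h0] using act_linear X a v 0

/-- `act` as a homomorphism into endomorphisms. -/
def actHom : S3 →* Module.End E (chevG2.Idx → E) where
  toFun := actL
  map_one' := LinearMap.ext act_one
  map_mul' p q := LinearMap.ext (act_mul p q)

/-- The homomorphism into the general linear group. -/
noncomputable def psi : S3 →* GL chevG2.Idx E :=
  ((LinearMap.toMatrixAlgEquiv' (R := E) (n := chevG2.Idx)).toMulEquiv.toMonoidHom.comp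
    actHom).toHomUnits

theorem psi_apply (X : S3) (a b : chevG2.Idx) :
    ((psi X : GL chevG2.Idx E) : Matrix chevG2.Idx chevG2.Idx E) a b = act X (Pi.single b 1) a :=
  LinearMap.toMatrix'_apply (actL X) a b

theorem psi_mulVec (X : S3) (v : chevG2.Idx → E) :
    Matrix.mulVec ((psi X : GL chevG2.Idx E) : Matrix chevG2.Idx chevG2.Idx E) v = act X v :=
  LinearMap.toMatrix'_mulVec (actL X) v

theorem psi_injective : Function.Injective (psi (E := E)) := by
  intro X Y h
  apply Matrix.SpecialLinearGroup.ext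
  intro i j
  have := congrFun (congrArg toU ((psi_mulVec X (ofT 0 (Pi.single j 1) 0)).symm.trans
    (by rw [h, psi_mulVec]))) i
  simpa [act, toU_ofT, Matrix.mulVec_single] using this

theorem psi_toU (X : S3) (i j : Fin 3) :
    ((psi X : GL chevG2.Idx E) : Matrix chevG2.Idx chevG2.Idx E) (iR (![7, 8, 2] i))
      (iR (![7, 8, 2] j)) = ↥ₘ X i j := by
  rw [psi_apply]
  fin_cases i <;> fin_cases j <;>
    simp [act, toU, Matrix.mulVec, dotProduct, Fin.sum_univ_three, Pi.single_apply]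

/-- The torus element with parameters `c`, inside `SL₃`. -/
def diagElt (c : Fin chevG2.rank → Eˣ) : S3 :=
  ⟨Matrix.diagonal ![((c (0 : Fin 2)) ^ 2 / c (1 : Fin 2) : Eˣ).val,
      ((c (1 : Fin 2)) / c (0 : Fin 2) : Eˣ).val, ((c (0 : Fin 2))⁻¹ : Eˣ).val], by
    rw [Matrix.det_diagonal, Fin.prod_univ_three]
    simp
    field_simp⟩

end Cfsg.Agent.G2Singer
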