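import Cfsg.Agent.G2Singer.LongRoots
import Cfsg.Agent.Chev.RegularTorus
import Cfsg.Agent.Chev.TopCentralizer
import Mathlib.FieldTheory.Finite.Extension

/-!
The cyclic self-centralising subgroup of order `q² + q + 1` of the group of type `G₂`: the norm-one
elements of the cubic extension, acting through `SL₃`.
-/

set_option autoImplicit false

namespace Cfsg.Agent.G2Singer

open Cfsg.Lie
open scoped MatrixGroups
open Cfsg.Agent.Chev

universe u v

/-- Coefficient of `q` in the exponent of a root, modulo `q² + q + 1`. -/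
def eX (r : ℕ) : ℤ := chevG2.cartan 0 r + 2 * chevG2.cartan 1 r

/-- Constant part of the exponent of a root, modulo `q² + q + 1`. -/
def eY (r : ℕ) : ℤ := chevG2.cartan 0 r + chevG2.cartan 1 r

/-- The short roots. -/
def shortRoots : List (Fin chevG2.nroots) :=
  ([2, 3, 4, 7, 8, 9] : List (Fin 12))

theorem short_sep : ∀ r ∈ shortRoots, ∀ s : Fin chevG2.nroots, r = s ∨
    ((eX r - eX s).natAbs ≤ 3 ∧ (eY r - eY s).natAbs ≤ 3 ∧ eY r - eY s ≠ -3 * (eX r - eX s)) := by
  decide +kernel

theorem root_sep : ∀ r : Fin chevG2.nroots,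
    (eX r).natAbs ≤ 3 ∧ (eY r).natAbs ≤ 3 ∧ eY r ≠ -3 * eX r := by
  decide +kernel

theorem pairing_sep : ∀ s t : Fin chevG2.nroots,
    (∀ r ∈ shortRoots, Chev.pairing chevG2 r s = Chev.pairing chevG2 r t) → s = t := by
  decide +kernel

/-- Small combinations of `q` and `1` are not multiples of `q² + q + 1`. -/
theorem not_dvd_small {q : ℕ} (hq : 3 ≤ q) {x y : ℤ} (hx : x.natAbs ≤ 3) (hy : y.natAbs ≤ 3)
    (hne : y ≠ -3 * x) : ¬ ((q ^ 2 + q + 1 : ℕ) : ℤ) ∣ x * q + y := by
  intro h
  have hx1 : -3 ≤ x ∧ x ≤ 3 := by omega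
  have hy1 : -3 ≤ y ∧ y ≤ 3 := by omega
  have hq' : (3 : ℤ) ≤ q := by exact_mod_cast hq
  have hlt : |x * q + y| < ((q ^ 2 + q + 1 : ℕ) : ℤ) := by
    push_cast
    rw [abs_lt]
    constructor <;> nlinarith
  have h0 := Int.eq_zero_of_abs_lt_dvd h hlt
  rcases lt_trichotomy x 0 with hx0 | hx0 | hx0
  · have h1 : x = -1 := by nlinarith
    subst h1; omega
  · subst hx0; omega
  · have h1 : x = 1 := by nlinarith
    subst h1; omega

variable {F : Type u} [Field F] [Fintype F] {K : Type v} [Field K] [Algebra F K] [Finite K]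

/-- The matrix of conjugates of a basis. -/
noncomputable def conjMat (q : ℕ) (b : Module.Basis (Fin 3) F K) : Matrix (Fin 3) (Fin 3) K :=
  Matrix.of fun i k => b k ^ q ^ (i : ℕ)

theorem frob_pow_add (q : ℕ) (hq : Fintype.card F = q) (i : ℕ) (x y : K) :
    (x + y) ^ q ^ i = x ^ q ^ i + y ^ q ^ i := by
  obtain ⟨p, hp⟩ := CharP.exists F
  obtain ⟨n, hpr, hn⟩ := FiniteField.card F p
  haveI : Fact p.Prime := ⟨hpr⟩
  haveI : CharP K p := charP_of_injective_algebraMap (algebraMap F K).injective p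
  rw [← hq, hn, ← pow_mul, add_pow_char_pow]

theorem conjMat_mul (q : ℕ) (hq : Fintype.card F = q) (b : Module.Basis (Fin 3) F K) (a : K) :
    conjMat q b * (Algebra.leftMulMatrix b a).map (algebraMap F K) =
      Matrix.diagonal (fun i : Fin 3 => a ^ q ^ (i : ℕ)) * conjMat q b := by
  ext i j
  have hfix : ∀ c : F, (algebraMap F K c) ^ q ^ (i : ℕ) = algebraMap F K c := fun c => by
    rw [← map_pow, ← hq, FiniteField.pow_card_pow]
  have h := congrArg (fun z : K => z ^ q ^ (i : ℕ)) (b.sum_repr (a * b j))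
  simp only [Fin.sum_univ_three, frob_pow_add q hq, Algebra.smul_def, mul_pow, hfix] at h
  rw [Matrix.diagonal_mul, Matrix.mul_apply, Fin.sum_univ_three]
  simp only [conjMat, Matrix.of_apply, Matrix.map_apply, Algebra.leftMulMatrix_eq_repr_mul]
  rw [← h]
  ring

theorem conjMat_det_ne_zero (q : ℕ) (hq : Fintype.card F = q)
    (b : Module.Basis (Fin 3) F K) : (conjMat q b).det ≠ 0 := by
  intro hdet
  obtain ⟨c, hc, hcz⟩ := Matrix.exists_vecMul_eq_zero_iff.2 hdet
  haveI := Fintype.ofFinite K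
  have hcard : Fintype.card K = q ^ 3 := by
    rw [Module.card_fintype b, hq, Fintype.card_fin]
  have hq2 : 2 ≤ q := hq ▸ Fintype.one_lt_card
  have hlin : ∀ x : K, c 0 * x + c 1 * x ^ q + c 2 * x ^ q ^ 2 = 0 := by
    have hfix : ∀ (i : ℕ) (a : F), (algebraMap F K a) ^ q ^ i = algebraMap F K a := fun i a => by
      rw [← map_pow, ← hq, FiniteField.pow_card_pow]
    have hb : ∀ k, c 0 * b k + c 1 * b k ^ q + c 2 * b k ^ q ^ 2 = 0 := fun k => by
      have := congrFun hcz k
      simpa [Matrix.vecMul, dotProduct, Fin.sum_univ_three, conjMat] using this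
    intro x
    have e1 : ∀ z : K, z ^ q = z ^ q ^ 1 := fun z => by rw [pow_one]
    rw [← b.sum_repr x, e1]
    simp only [Fin.sum_univ_three, frob_pow_add q hq, Algebra.smul_def, mul_pow, hfix]
    have h0 := hb 0
    have h1 := hb 1
    have h2 := hb 2
    simp only [pow_one]
    linear_combination algebraMap F K (b.repr x 0) * h0 + algebraMap F K (b.repr x 1) * h1 +
      algebraMap F K (b.repr x 2) * h2
  open Polynomial in
  have hP : C (c 0) * X + C (c 1) * X ^ q + C (c 2) * X ^ q ^ 2 = (0 : K[X]) := by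
    refine eq_zero_of_natDegree_lt_card_of_eval_eq_zero _ (f := id) Function.injective_id
      (fun x => by simpa using hlin x) ?_
    have hq3 : q ^ 2 < q ^ 3 := Nat.pow_lt_pow_right hq2 (by norm_num)
    have hqq : q ≤ q ^ 2 := Nat.le_self_pow two_ne_zero q
    rw [hcard]
    refine lt_of_le_of_lt ?_ hq3
    refine (natDegree_add_le _ _).trans (max_le ((natDegree_add_le _ _).trans (max_le ?_ ?_)) ?_)
    · exact (natDegree_C_mul_le _ _).trans (natDegree_X_le.trans (le_trans (by omega) hqq))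
    · exact (natDegree_C_mul_X_pow_le _ _).trans hqq
    · exact natDegree_C_mul_X_pow_le _ _
  have hne1 : q ≠ 1 := by omega
  have hne2 : q ^ 2 ≠ 1 := by nlinarith
  have hne3 : q ^ 2 ≠ q := by nlinarith
  apply hc
  have hcoef : ∀ n : ℕ, (Polynomial.C (c 0) * Polynomial.X + Polynomial.C (c 1) * Polynomial.X ^ q +
      Polynomial.C (c 2) * Polynomial.X ^ q ^ 2).coeff n = 0 := fun n => by rw [hP]; simp
  funext i
  fin_cases i
  · simpa [Polynomial.coeff_X_pow, hne1.symm, hne2.symm] using hcoef 1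
  · simpa [Polynomial.coeff_X_pow, Polynomial.coeff_X, hne1.symm, hne3.symm] using hcoef q
  · have := hcoef (q ^ 2)
    simp only [Polynomial.coeff_add, Polynomial.coeff_C_mul, Polynomial.coeff_X_pow,
      Polynomial.coeff_X, if_neg hne2.symm, if_neg hne3, if_pos, mul_zero, mul_one, zero_add] at this
    exact this

theorem det_leftMulMatrix (q : ℕ) (hq : Fintype.card F = q) (b : Module.Basis (Fin 3) F K)
    (a : K) : algebraMap F K (Algebra.leftMulMatrix b a).det = a ^ (q ^ 2 + q + 1) := by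
  have h := congrArg Matrix.det (conjMat_mul q hq b a)
  rw [Matrix.det_mul, Matrix.det_mul, Matrix.det_diagonal, Fin.prod_univ_three,
    mul_comm _ (conjMat q b).det, ← RingHom.mapMatrix_apply, ← RingHom.map_det] at h
  rw [mul_left_cancel₀ (conjMat_det_ne_zero q hq b) h]
  simp only [Fin.val_zero, Fin.val_one, Fin.val_two, pow_zero, pow_one, pow_add]
  ring

/-- The cyclic subgroup, given an element of order `q² + q + 1` of the cubic extension. -/
theorem exists_selfCentralizing_of_ext (q : ℕ) (hq : Fintype.card F = q) (hq3 : 3 ≤ q)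
    (h3 : Module.finrank F K = 3) :
    ∃ H : Subgroup ↥(chevG2.group F), IsCyclic ↥H ∧ Nat.card ↥H = q ^ 2 + q + 1 ∧
      Subgroup.centralizer (H : Set ↥(chevG2.group F)) = H := by
  classical
  haveI := Fintype.ofFinite K
  haveI : Module.Finite F K := Module.Finite.of_finite
  set b := Module.finBasisOfFinrankEq F K h3 with hb
  have hcard : Fintype.card K = q ^ 3 := by
    rw [Module.card_fintype b, hq, Fintype.card_fin]
  set N := q ^ 2 + q + 1 with hN
  have hqN : q - 1 < N := by omega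
  have hfact : q ^ 3 - 1 = (q - 1) * N := by
    obtain ⟨k, rfl⟩ : ∃ k, q = k + 1 := ⟨q - 1, by omega⟩
    rw [hN, Nat.add_sub_cancel]
    refine Nat.sub_eq_of_eq_add ?_
    ring
  -- an element of order `N`
  obtain ⟨g, hg⟩ := IsCyclic.exists_generator (α := Kˣ)
  have hog : orderOf g = q ^ 3 - 1 := by
    rw [orderOf_eq_card_of_forall_mem_zpowers hg, Nat.card_units, Nat.card_eq_fintype_card, hcard]
  set μ := g ^ (q - 1) with hμ
  have hoμ : orderOf μ = N := by
    rw [hμ, orderOf_pow, hog, hfact,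
      Nat.gcd_eq_right (Dvd.intro N rfl), Nat.mul_div_cancel_left N (by omega : 0 < q - 1)]
  have hμN : μ ^ N = 1 := by rw [← hoμ, pow_orderOf_eq_one]
  -- in `SL₃`
  have hdet : (Algebra.leftMulMatrix b (μ : K)).det = 1 := by
    apply (algebraMap F K).injective
    rw [det_leftMulMatrix q hq b, map_one, ← hN, ← Units.val_pow_eq_pow_val, hμN, Units.val_one]
  let Mu : Matrix.SpecialLinearGroup (Fin 3) F := ⟨_, hdet⟩
  have hMu : ∀ n : ℕ, (((Mu ^ n : Matrix.SpecialLinearGroup (Fin 3) F)) :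
      Matrix (Fin 3) (Fin 3) F) = Algebra.leftMulMatrix b ((μ : K) ^ n) := fun n => by
    rw [Matrix.SpecialLinearGroup.coe_pow, map_pow]
  let gμ : ↥(chevG2.group F) := ⟨psi Mu, psi_mem_group Mu⟩
  have hpow : ∀ n : ℕ, (gμ ^ n = 1 ↔ μ ^ n = 1) := by
    intro n
    rw [Subtype.ext_iff, SubmonoidClass.coe_pow, OneMemClass.coe_one]
    show psi Mu ^ n = 1 ↔ _
    rw [← map_pow, ← map_one (psi (E := F)), psi_injective.eq_iff]
    constructor
    · intro h
      have := congrArg (fun X : Matrix.SpecialLinearGroup (Fin 3) F =>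
        (X : Matrix (Fin 3) (Fin 3) F)) h
      simp only [hMu, Matrix.SpecialLinearGroup.coe_one] at this
      exact Units.ext (by simpa using Algebra.leftMulMatrix_injective b (this.trans (map_one _).symm))
    · intro h
      apply Subtype.ext
      rw [hMu, ← Units.val_pow_eq_pow_val, h, Units.val_one, map_one,
        Matrix.SpecialLinearGroup.coe_one]
  have hogμ : orderOf gμ = N := (orderOf_eq_orderOf_iff.2 hpow).trans hoμ
  refine ⟨Subgroup.zpowers gμ, inferInstance, by rw [Nat.card_zpowers, hogμ],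
    le_antisymm ?_ ?_⟩
  swap
  · intro x hx
    rw [Subgroup.mem_centralizer_iff]
    intro y hy
    obtain ⟨i, rfl⟩ := Subgroup.mem_zpowers_iff.1 hx
    obtain ⟨j, rfl⟩ := Subgroup.mem_zpowers_iff.1 (SetLike.mem_coe.1 hy)
    rw [← zpow_add, ← zpow_add, add_comm]
  intro x hx
  have hxμ : psi Mu * (x : GL chevG2.Idx F) = (x : GL chevG2.Idx F) * psi Mu :=
    congrArg Subtype.val (Subgroup.mem_centralizer_iff.1 hx gμ (Subgroup.mem_zpowers gμ))
  -- diagonalise over the extension
  set ι := algebraMap F K with hι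
  set δ := (conjMat q b).det with hδ
  have hδ0 : δ ≠ 0 := conjMat_det_ne_zero q hq b
  let Y : Matrix.SpecialLinearGroup (Fin 3) K :=
    ⟨Matrix.diagonal ![δ⁻¹, 1, 1] * conjMat q b, by
      rw [Matrix.det_mul, Matrix.det_diagonal, Fin.prod_univ_three, ← hδ]
      simp [hδ0]⟩
  let c : Fin chevG2.rank → Kˣ :=
    (![μ ^ (-(q : ℤ) ^ 2), μ ^ ((q : ℤ) - (q : ℤ) ^ 2)] : Fin 2 → Kˣ)
  have hdiag : diagElt c * Y = Y * Matrix.SpecialLinearGroup.map ι Mu := by
    apply Subtype.ext
    show _ * (Matrix.diagonal _ * conjMat q b) =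
      Matrix.diagonal _ * conjMat q b * ((Algebra.leftMulMatrix b (μ : K)).map ι)
    rw [Matrix.mul_assoc, conjMat_mul q hq, ← Matrix.mul_assoc, ← Matrix.mul_assoc]
    congr 1
    rw [diagElt, Matrix.diagonal_mul_diagonal, Matrix.diagonal_mul_diagonal]
    congr 1
    have hz : ∀ m n : ℤ, (N : ℤ) ∣ n - m → μ ^ m = μ ^ n := fun m n h => by
      rw [zpow_eq_zpow_iff_modEq, hoμ]
      exact Int.modEq_iff_dvd.2 h
    have hnat : ∀ n : ℕ, (μ : K) ^ n = ((μ ^ ((n : ℕ) : ℤ) : Kˣ) : K) := fun n => by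
      rw [zpow_natCast]; exact (Units.val_pow_eq_pow_val _ _).symm
    have hc0 : c (0 : Fin 2) = μ ^ (-(q : ℤ) ^ 2) := rfl
    have hc1 : c (1 : Fin 2) = μ ^ ((q : ℤ) - (q : ℤ) ^ 2) := rfl
    have h0 : c (0 : Fin 2) ^ 2 / c (1 : Fin 2) = μ ^ ((q ^ 0 : ℕ) : ℤ) := by
      rw [hc0, hc1, sq (μ ^ _), ← zpow_add, div_eq_mul_inv, ← zpow_sub]
      refine hz _ _ ⟨1, ?_⟩
      push_cast [hN]; ring
    have h1 : c (1 : Fin 2) / c (0 : Fin 2) = μ ^ ((q ^ 1 : ℕ) : ℤ) := by
      rw [hc0, hc1, div_eq_mul_inv, ← zpow_sub]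
      refine hz _ _ ⟨0, ?_⟩
      push_cast [hN]; ring
    have h2 : (c (0 : Fin 2))⁻¹ = μ ^ ((q ^ 2 : ℕ) : ℤ) := by
      rw [hc0, ← zpow_neg]
      refine hz _ _ ⟨0, ?_⟩
      push_cast [hN]; ring
    funext i
    rw [mul_comm]
    congr 1
    rw [hnat]
    fin_cases i
    · exact congrArg Units.val h0
    · exact congrArg Units.val h1
    · exact congrArg Units.val h2
  have hchi : ∀ r : Fin chevG2.nroots, chiU c (r : ℕ) = μ ^ (eX r * q + eY r) := by
    intro r
    rw [chiU]
    show (∏ j : Fin 2, c j ^ chevG2.cartan j r : Kˣ) = _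
    rw [Fin.prod_univ_two]
    simp only [c, Matrix.cons_val_zero, Matrix.cons_val_one, ← zpow_mul, ← zpow_add]
    rw [zpow_eq_zpow_iff_modEq, hoμ, Int.modEq_iff_dvd]
    refine ⟨chevG2.cartan 0 r + chevG2.cartan 1 r, ?_⟩
    simp only [eX, eY, Fin.val_zero, Fin.val_one, hN]
    push_cast
    ring
  have hsep : ∀ (m n : ℤ), μ ^ m = μ ^ n → (N : ℤ) ∣ m - n := fun m n h => by
    rw [zpow_eq_zpow_iff_modEq, hoμ, Int.modEq_iff_dvd] at h
    simpa using h.neg_right
  -- the centraliser is rational and diagonal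
  have hcK : psi (diagElt c) * (psi Y * gmap chevG2 ι (x : GL chevG2.Idx F) * (psi Y)⁻¹) =
      (psi Y * gmap chevG2 ι (x : GL chevG2.Idx F) * (psi Y)⁻¹) * psi (diagElt c) := by
    have h1 : psi (diagElt c) * psi Y = psi Y * gmap chevG2 ι (psi Mu) := by
      rw [gmap_psi, ← map_mul, ← map_mul, hdiag]
    calc psi (diagElt c) * (psi Y * gmap chevG2 ι (x : GL chevG2.Idx F) * (psi Y)⁻¹)
        = (psi (diagElt c) * psi Y) * gmap chevG2 ι (x : GL chevG2.Idx F) * (psi Y)⁻¹ := by group
      _ = psi Y * gmap chevG2 ι (psi Mu * (x : GL chevG2.Idx F)) * (psi Y)⁻¹ := by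
          rw [h1, map_mul]; group
      _ = psi Y * gmap chevG2 ι (x : GL chevG2.Idx F) *
            (psi Y)⁻¹ * (psi Y * gmap chevG2 ι (psi Mu)) * (psi Y)⁻¹ := by
          rw [hxμ, map_mul]; group
      _ = _ := by rw [← h1]; group
  obtain ⟨e, he⟩ := eq_torusHom_of_comm facts_chevG2 (c := c) (F := K)
    (fun r h => by
      rw [hchi, ← zpow_zero μ] at h
      have := hsep _ _ h
      rw [sub_zero] at this
      exact not_dvd_small hq3 (root_sep r).1 (root_sep r).2.1 (root_sep r).2.2 this)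
    (fun w hw => by
      have hfix : ∀ r ∈ shortRoots, pWord facts_chevG2 w r = r := by
        intro r hr
        rcases short_sep r hr (pWord facts_chevG2 w r) with h | ⟨h1, h2, h3⟩
        · exact h.symm
        · have h := hw r
          rw [hchi, hchi] at h
          refine absurd ?_ (not_dvd_small hq3 h1 h2 h3)
          rw [← hN]
          rw [show (eX r - eX (pWord facts_chevG2 w r)) * q + (eY r - eY (pWord facts_chevG2 w r)) =
              -((eX (pWord facts_chevG2 w r) * q + eY (pWord facts_chevG2 w r)) -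
                (eX r * q + eY r)) by ring]
          exact (hsep _ _ h).neg_right
      ext1 s
      refine (pairing_sep _ _ fun r hr => ?_)
      conv_lhs => rw [← hfix r hr]
      exact pairing_pWord facts_chevG2 w r s)
    (by
      refine Subgroup.mul_mem _ (Subgroup.mul_mem _ (psi_mem_group Y)
        (gmap_mem_group facts_chevG2 facts_chevG2 ι x.2)) (Subgroup.inv_mem _ (psi_mem_group Y)))
    (by rw [← psi_diagElt]; exact hcK)
  set Z := Y⁻¹ * diagElt e * Y with hZ
  have hxZ : gmap chevG2 ι (x : GL chevG2.Idx F) = psi Z := by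
    rw [hZ, map_mul, map_mul, map_inv, psi_diagElt, ← he]
    group
  let σ : K →ₐ[F] K := FiniteField.frobeniusAlgHom F K
  have hσZ : Matrix.SpecialLinearGroup.map σ.toRingHom Z = Z := by
    apply psi_injective
    rw [← gmap_psi, ← hxZ]
    apply Units.ext
    ext i j
    simp [gmap_apply, hι]
  have hrange : ∀ z : K, σ z = z → ∃ a : F, ι a = z := by
    intro z hz
    have hpow : ∀ n : ℕ, z ^ q ^ n = z := by
      intro n
      induction n with
      | zero => simp
      | succ n ih =>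
        rw [pow_succ, pow_mul, ih]
        simpa [σ, hq] using hz
    refine IntermediateField.mem_bot.1 ((IsGalois.mem_bot_iff_fixed z).2 fun f => ?_)
    obtain ⟨p, hp⟩ := CharP.exists F
    haveI : Fact p.Prime := ⟨(FiniteField.card F p).choose_spec.1⟩
    obtain ⟨i, hi⟩ := FiniteField.exists_forall_apply_eq_pow F p K f
    rw [hi, Nat.card_eq_fintype_card, hq, hpow]
  choose z hz using fun i j : Fin 3 => hrange ((Z : Matrix (Fin 3) (Fin 3) K) i j)
    (congrFun (congrFun (congrArg (fun X : Matrix.SpecialLinearGroup (Fin 3) K =>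
      (X : Matrix (Fin 3) (Fin 3) K)) hσZ) i) j)
  let Z0 : Matrix.SpecialLinearGroup (Fin 3) F := ⟨Matrix.of z, by
    apply ι.injective
    rw [map_one, RingHom.map_det, show ι.mapMatrix (Matrix.of z) = (Z : Matrix (Fin 3) (Fin 3) K)
      from Matrix.ext hz, Matrix.SpecialLinearGroup.det_coe]⟩
  have hx0 : (x : GL chevG2.Idx F) = psi Z0 := by
    apply gmap_injective ι
    rw [hxZ, gmap_psi]
    congr 1
    exact Subtype.ext (Matrix.ext fun i j => (hz i j).symm)
  have hZμ : (Mu : Matrix (Fin 3) (Fin 3) F) * Matrix.of z =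
      Matrix.of z * (Mu : Matrix (Fin 3) (Fin 3) F) := by
    rw [hx0, ← map_mul, ← map_mul, psi_injective.eq_iff] at hxμ
    exact congrArg Subtype.val hxμ
  -- the matrix is a multiplication
  let S : Subalgebra F K := (Subalgebra.centralizer F {Matrix.of z}).comap (Algebra.leftMulMatrix b)
  have hS : S = ⊤ := by
    haveI := Subalgebra.isSimpleOrder_of_finrank_prime F K (by rw [h3]; norm_num)
    refine (eq_bot_or_eq_top S).resolve_left fun h => ?_
    have hm : (μ : K) ∈ S := by
      show Algebra.leftMulMatrix b (μ : K) ∈ Subalgebra.centralizer F {Matrix.of z}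
      rw [Subalgebra.mem_centralizer_iff]
      rintro _ rfl
      exact hZμ.symm
    rw [h, Algebra.mem_bot] at hm
    obtain ⟨a, ha⟩ := hm
    have ha0 : a ≠ 0 := fun e => by rw [e, map_zero] at ha; exact μ.ne_zero ha.symm
    have : μ ^ (q - 1) = 1 := Units.ext (by
      rw [Units.val_pow_eq_pow_val, ← ha, ← map_pow, ← hq, FiniteField.pow_card_sub_one_eq_one a ha0,
        map_one, Units.val_one])
    have := orderOf_dvd_of_pow_eq_one this
    rw [hoμ] at this
    exact absurd (Nat.le_of_dvd (by omega) this) (by omega)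
  set a := Matrix.toLin b b (Matrix.of z) 1 with ha
  have hza : Matrix.of z = Algebra.leftMulMatrix b a := by
    apply (Matrix.toLin b b).injective
    rw [Algebra.leftMulMatrix_apply, Matrix.toLin_toMatrix]
    refine LinearMap.ext fun y => ?_
    have hy : y ∈ S := hS ▸ Algebra.mem_top
    have := (Subalgebra.mem_centralizer_iff F).1 (show Algebra.leftMulMatrix b y ∈ _ from hy)
      (Matrix.of z) rfl
    have e := LinearMap.congr_fun (congrArg (Matrix.toLin b b) this) 1
    rw [Matrix.toLin_mul b b b, Matrix.toLin_mul b b b, Algebra.leftMulMatrix_apply,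
      Matrix.toLin_toMatrix] at e
    simpa [ha, mul_comm] using e
  have haN : a ^ N = 1 := by
    rw [hN, ← det_leftMulMatrix q hq b, ← hza]
    rw [show (Matrix.of z).det = 1 from Z0.2, map_one]
  have ha0 : a ≠ 0 := fun e => by rw [e, zero_pow (by omega)] at haN; exact zero_ne_one haN
  obtain ⟨k, hk⟩ := Subgroup.mem_zpowers_iff.1 (hg (Units.mk0 a ha0))
  have hdvd : ((q - 1 : ℕ) : ℤ) ∣ k := by
    have h1 : (g ^ k) ^ N = 1 := by
      rw [hk]; exact Units.ext (by simpa using haN)
    rw [← zpow_natCast, ← zpow_mul, ← orderOf_dvd_iff_zpow_eq_one, hog, hfact, Nat.cast_mul] at h1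
    exact Int.dvd_of_mul_dvd_mul_right (by exact_mod_cast (by omega : N ≠ 0)) h1
  obtain ⟨m, rfl⟩ := hdvd
  rw [zpow_mul, zpow_natCast, ← hμ] at hk
  obtain ⟨n, hn⟩ : ∃ n : ℕ, μ ^ n = Units.mk0 a ha0 :=
    (isOfFinOrder_of_finite μ).mem_zpowers_iff_mem_range_orderOf.1 ⟨m, hk⟩ |> fun h => by
      obtain ⟨n, -, hn⟩ := Finset.mem_image.1 h; exact ⟨n, hn⟩
  refine Subgroup.mem_zpowers_iff.2 ⟨n, ?_⟩
  rw [zpow_natCast]
  apply Subtype.ext
  rw [SubmonoidClass.coe_pow, hx0, ← map_pow]
  congr 1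
  apply Subtype.ext
  rw [hMu, ← Units.val_pow_eq_pow_val, hn, Units.val_mk0]
  exact hza.symm

end Cfsg.Agent.G2Singer

namespace Cfsg.Agent.G2Singer

open Cfsg.Lie

/-- The group of type `G₂` over a field with `q ≥ 3` elements has a self-centralising cyclic subgroup
of order `q² + q + 1`. -/
theorem exists_selfCentralizing {F : Type*} [Field F] [Fintype F] (q : ℕ)
    (hF : Fintype.card F = q) (hq : 3 ≤ q) :
    ∃ H : Subgroup ↥(chevG2.group F), IsCyclic ↥H ∧ Nat.card ↥H = q ^ 2 + q + 1 ∧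
      Subgroup.centralizer (H : Set ↥(chevG2.group F)) = H := by
  obtain ⟨p, hp⟩ := CharP.exists F
  haveI : Fact p.Prime := ⟨(FiniteField.card F p).choose_spec.1⟩
  exact exists_selfCentralizing_of_ext (K := FiniteField.Extension F p 3) q hF hq
    (FiniteField.finrank_extension F p 3)

end Cfsg.Agent.G2Singer
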